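import Mathlib
import Cfsg.Agent.Lib.Fischer.CertA
import Cfsg.Agent.Lib.Fischer.CertB

/-!
# Upper bounds for the orders of the small Y-groups
-/

set_option autoImplicit false

namespace CfsgLib.Fischer

open CfsgLib.Comput

variable {G : Type*} [Group G] {g : ℕ → G}

/-- `H` is finite of order at most `N` -/
def FB (H : Subgroup G) (N : ℕ) : Prop := Finite H ∧ Nat.card H ≤ N

theorem FB.step {xs ys : List ℕ} {a N : ℕ} (h : FB (cl g ys) a)
    (hm : InA g (lettersOf ys) (MulAction.stabilizer G ((1 : G) : G ⧸ cl g ys)) →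
      (MulAction.orbit (cl g xs) ((1 : G) : G ⧸ cl g ys)).Finite ∧
        (MulAction.orbit (cl g xs) ((1 : G) : G ⧸ cl g ys)).ncard ≤ N) :
    FB (cl g xs) (N * a) ∧ Nat.card (cl g xs) ≤ N * Nat.card (cl g ys) := by
  have := h.1
  have h1 := card_le_of_enum (hm (InA.stab_coset (inA_cl g ys)))
  exact ⟨⟨h1.1, h1.2.trans (Nat.mul_le_mul_left _ h.2)⟩, h1.2⟩

theorem fb_nil (g : ℕ → G) : FB (cl g []) 1 := by
  rw [cl_nil]; exact ⟨inferInstance, Subgroup.card_bot.le⟩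

theorem fb_e6 (hc : Cox g 190) : FB (cl g [2, 3, 4, 5, 6, 8]) 51840 :=
  (((((fb_nil g).step (US5.main (hc.mono (by decide)) (triv_nil g))).1.step
    (UD5.main (hc.mono (by decide)) (triv_nil g))).1).step (UE6.main hc (triv_nil g))).1

theorem fb_y222 (hc : Cox g 446) (hs : ev g spW = 1) : FB (cl g [2, 3, 4, 5, 6, 8, 9]) 12597120 :=
  ((fb_e6 (hc.mono (by decide))).step (UY222.main hc (Triv.cons hs (triv_nil g)))).1

theorem fb_y322 (hc : Cox g 510) (hs : ev g spW = 1) : FB (cl g [2, 3, 4, 5, 6, 7, 8, 9]) 9170703360 :=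
  ((fb_y222 (hc.mono (by decide)) hs).step (UY322.main hc (Triv.cons hs (triv_nil g)))).1

theorem fb_y322q (hc : Cox g 510) (hs : ev g spW = 1) (hb : ev g ebW = 1) :
    FB (cl g [2, 3, 4, 5, 6, 7, 8, 9]) 4585351680 :=
  ((fb_y222 (hc.mono (by decide)) hs).step (UY322q.main hc (Triv.cons hs (Triv.cons hb (triv_nil g))))).1

theorem R22d.step (h : R22d g) {a : ℕ} (h1 : FB (cl g [2, 3, 4, 5, 6, 7, 8, 9]) a) :
    FB (cl g [1, 2, 3, 4, 5, 6, 7, 8, 9]) (14080 * a) ∧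
      Nat.card (cl g [1, 2, 3, 4, 5, 6, 7, 8, 9]) ≤ 14080 * Nat.card (cl g [2, 3, 4, 5, 6, 7, 8, 9]) :=
  h1.step (UY332.main h.cox (Triv.cons h.sp (Triv.cons h.ea (triv_nil g))))

theorem R22d.fb7 (h : R22d g) : FB (cl g [2, 3, 4, 5, 6, 7, 8, 9]) 9170703360 := fb_y322 (h.cox.mono (by decide)) h.sp

theorem R22.fb7 (h : R22 g) : FB (cl g [2, 3, 4, 5, 6, 7, 8, 9]) 4585351680 :=
  fb_y322q (h.cox.mono (by decide)) h.sp h.eb

theorem R22d.fb (h : R22d g) : FB (cl g [1, 2, 3, 4, 5, 6, 7, 8, 9]) 129123503308800 := (h.step h.fb7).1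

theorem R22.fb (h : R22 g) : FB (cl g [1, 2, 3, 4, 5, 6, 7, 8, 9]) 64561751654400 := (h.toR22d.step h.fb7).1

theorem fb_e8 (hc : Cox g 3263) (hl : ev g leW = 1) : FB (cl g [1, 2, 3, 4, 5, 6, 8, 11, 12]) 348364800 :=
  (((fb_e6 (hc.mono (by decide))).step (UE7.main (hc.mono (by decide)) (triv_nil g))).1.step
    (UE8.main hc (Triv.cons hl (triv_nil g)))).1

theorem mem_of_smul_one {H : Subgroup G} {x : G} (h : x • ((1 : G) : G ⧸ H) = ((1 : G) : G ⧸ H)) : x ∈ H := by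
  rwa [← MulAction.mem_stabilizer_iff, MulAction.stabilizer_quotient] at h

theorem sp_mem_e8 (hc : Cox g 3519) (hl : ev g leW = 1) : ev g spW ∈ cl g [1, 2, 3, 4, 5, 6, 8, 11, 12] :=
  mem_of_smul_one (USp.main hc (Triv.cons hl (triv_nil g)) (InA.stab_coset (inA_cl g [1, 2, 3, 4, 5, 6, 8, 11, 12])) spW
    (memL_sound (by decide +kernel)))

end CfsgLib.Fischer
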