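import Mathlib
import Cfsg.Agent.Lib.Fischer.Gens

/-!
# The subgroups named in the statements, as subgroups generated by packed words
-/

set_option autoImplicit false

namespace CfsgLib.Fischer

open CfsgLib.Comput Cfsg Cfsg.Spor

theorem map_closure_eq_cl {F G : Type*} [Group F] [Group G] (φ : F →* G) (g : ℕ → G) (l : List F) (ws : List ℕ)
    (h : l.map φ = ws.map (ev g)) : (Subgroup.closure {x | x ∈ l}).map φ = cl g ws := by
  rw [MonoidHom.map_closure, cl]
  congr 1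
  ext x
  have h1 : x ∈ l.map φ ↔ x ∈ ws.map (ev g) := by rw [h]
  simpa using h1

theorem words22_cent : (Subgroup.closure ({Fi22.a, Fi22.c, Fi22.d, Fi22.e, Fi22.f, Fi22.g, Fi22.h, Fi22.i,
    (Fi22.a * Fi22.b * Fi22.c * Fi22.d * Fi22.e * Fi22.h) ^ 5} : Set (FreeGroup Fi22.Gen))).map
    (PresentedGroup.mk (coxRelators Fi22.edges ∪ {r | r ∈ Fi22.extra})) = cl g22 [1, 3, 4, 5, 6, 7, 8, 9, yW] := by
  rw [← map_closure_eq_cl _ g22 [Fi22.a, Fi22.c, Fi22.d, Fi22.e, Fi22.f, Fi22.g, Fi22.h, Fi22.i,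
    (Fi22.a * Fi22.b * Fi22.c * Fi22.d * Fi22.e * Fi22.h) ^ 5]]
  · congr 2; ext x; simp
  · simp only [List.map_cons, List.map_nil, ev_yW, ev_digit g22 (d := 1) (by norm_num),
      ev_digit g22 (d := 3) (by norm_num), ev_digit g22 (d := 4) (by norm_num), ev_digit g22 (d := 5) (by norm_num),
      ev_digit g22 (d := 6) (by norm_num), ev_digit g22 (d := 7) (by norm_num), ev_digit g22 (d := 8) (by norm_num),
      ev_digit g22 (d := 9) (by norm_num)]
    rfl

theorem words22_o7 : (Subgroup.closure ({Fi22.b, Fi22.c, Fi22.d, Fi22.e, Fi22.f, Fi22.g, Fi22.h, Fi22.i} :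
    Set (FreeGroup Fi22.Gen))).map (PresentedGroup.mk (coxRelators Fi22.edges ∪ {r | r ∈ Fi22.extra})) =
    cl g22 [2, 3, 4, 5, 6, 7, 8, 9] := by
  rw [← map_closure_eq_cl _ g22 [Fi22.b, Fi22.c, Fi22.d, Fi22.e, Fi22.f, Fi22.g, Fi22.h, Fi22.i]]
  · congr 2; ext x; simp
  · simp only [List.map_cons, List.map_nil, ev_digit g22 (d := 2) (by norm_num),
      ev_digit g22 (d := 3) (by norm_num), ev_digit g22 (d := 4) (by norm_num), ev_digit g22 (d := 5) (by norm_num),
      ev_digit g22 (d := 6) (by norm_num), ev_digit g22 (d := 7) (by norm_num), ev_digit g22 (d := 8) (by norm_num),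
      ev_digit g22 (d := 9) (by norm_num)]
    rfl

theorem words23 : (Subgroup.closure ({Fi23.a, Fi23.b, Fi23.c, Fi23.d, Fi23.e, Fi23.f, Fi23.g, Fi23.h, Fi23.i} :
    Set (FreeGroup Fi23.Gen))).map (PresentedGroup.mk (coxRelators Fi23.edges ∪ {r | r ∈ Fi23.extra})) =
    cl g23 [1, 2, 3, 4, 5, 6, 7, 8, 9] := by
  rw [← map_closure_eq_cl _ g23 [Fi23.a, Fi23.b, Fi23.c, Fi23.d, Fi23.e, Fi23.f, Fi23.g, Fi23.h, Fi23.i]]
  · congr 2; ext x; simp
  · simp only [List.map_cons, List.map_nil, ev_digit g23 (d := 1) (by norm_num), ev_digit g23 (d := 2) (by norm_num),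
      ev_digit g23 (d := 3) (by norm_num), ev_digit g23 (d := 4) (by norm_num), ev_digit g23 (d := 5) (by norm_num),
      ev_digit g23 (d := 6) (by norm_num), ev_digit g23 (d := 7) (by norm_num), ev_digit g23 (d := 8) (by norm_num),
      ev_digit g23 (d := 9) (by norm_num)]
    rfl

theorem words24 : (Subgroup.closure ({Fi24.a, Fi24.b, Fi24.c, Fi24.d, Fi24.e, Fi24.f, Fi24.g, Fi24.h, Fi24.i, Fi24.j,
    Fi24.l} : Set (FreeGroup Fi24.Gen))).map (PresentedGroup.mk (coxRelators Fi24.edges ∪ {r | r ∈ Fi24.extra})) =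
    cl g24 [1, 2, 3, 4, 5, 6, 7, 8, 9, 10, 12] := by
  rw [← map_closure_eq_cl _ g24 [Fi24.a, Fi24.b, Fi24.c, Fi24.d, Fi24.e, Fi24.f, Fi24.g, Fi24.h, Fi24.i, Fi24.j,
    Fi24.l]]
  · congr 2; ext x; simp
  · simp only [List.map_cons, List.map_nil, ev_digit g24 (d := 1) (by norm_num), ev_digit g24 (d := 2) (by norm_num),
      ev_digit g24 (d := 3) (by norm_num), ev_digit g24 (d := 4) (by norm_num), ev_digit g24 (d := 5) (by norm_num),
      ev_digit g24 (d := 6) (by norm_num), ev_digit g24 (d := 7) (by norm_num), ev_digit g24 (d := 8) (by norm_num),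
      ev_digit g24 (d := 9) (by norm_num), ev_digit g24 (d := 10) (by norm_num), ev_digit g24 (d := 12) (by norm_num)]
    rfl

theorem index_eq_of_card {G : Type*} [Group G] {H : Subgroup G} {N a q : ℕ} (h1 : Nat.card G = N)
    (h2 : Nat.card H = a) (h3 : N = a * q) (h4 : 0 < a) : H.index = q := by
  have := H.card_mul_index
  rw [h1, h2, h3] at this
  exact Nat.eq_of_mul_eq_mul_left h4 this

end CfsgLib.Fischer
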